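import Cfsg.Agent.H728.DL.Rank
import Cfsg.Agent.H187.FiTwoZ.FiTwo

/-!
# S4932: the data of `Kill 2 Fi22` (helper728)

`429 = 3 * 11 * 13` is the degree of a real character, `Fi22` has elements of order `22`.
-/

set_option autoImplicit false

open Cfsg

namespace Cfsg.Agent.H728.DL.Fi22

open Cfsg.Agent.H619.BD Cfsg.Agent.H619.R4 Cfsg.Agent.H187.FiTwoZ

universe u

theorem model : KD 2 ↥(⊤ : Subgroup Cfsg.Agent.Fischer.Group22.G) := by
  let T : Type := ↥(⊤ : Subgroup Cfsg.Agent.Fischer.Group22.G)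
  let f : T ≃* Spor.Fi22 := Subgroup.topEquiv.trans Cfsg.Agent.R01.Fi22Facts.E
  have hcT : Nat.card T = 64561751654400 := Cfsg.Agent.H713.Spor.Fi22.card_fi22 f
  have hfT : Finite T := Nat.finite_of_card_ne_zero (by rw [hcT]; norm_num)
  have hP := pair_of Cfsg.Agent.Fischer.Rank22.R ⊤ same_top (k := 693) (l := 2816) (m := 126)
    Cfsg.Agent.LThreeM.FiTwo.nb_card Cfsg.Agent.LThreeM.FiTwo.cn_b (by rw [Nat.card_eq_fintype_card, Fintype.card_fin])
    (by norm_num) (by norm_num) (r := 63) (s := -9) (by norm_num) (by norm_num) (by norm_num) (f := 429) (g := 3080)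
    (by norm_num) (by norm_num) (by norm_num)
  obtain ⟨u, hu⟩ := Cfsg.Agent.H713.Spor.Fi22.exists_22 f
  refine KD.zero 11 (B0D.of_real hP.rc.1 (by decide)) (by norm_num) (by norm_num) (by norm_num) (by norm_num) ?_ u
    (by rw [hu])
  have h1 : (Nat.card T).factorization 11 = 1 :=
    factorization_card hcT (by norm_num) (by norm_num) (by norm_num) (by norm_num)
  show 11 ^ (Nat.card T).factorization 11 ∣ 429
  rw [h1]
  norm_num

/-- **`Fi22`, `p = 2`.** -/
theorem kd_fi22 {S : Type u} [Group S] (h : Spor.IsoFi22 S) : KD 2 S := by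
  obtain ⟨e⟩ := h
  let f : ↥(⊤ : Subgroup Cfsg.Agent.Fischer.Group22.G) ≃* Spor.Fi22 :=
    Subgroup.topEquiv.trans Cfsg.Agent.R01.Fi22Facts.E
  have hfT : Finite ↥(⊤ : Subgroup Cfsg.Agent.Fischer.Group22.G) :=
    Nat.finite_of_card_ne_zero (by rw [Cfsg.Agent.H713.Spor.Fi22.card_fi22 f]; norm_num)
  exact model.congr (f.trans e.symm)

end Cfsg.Agent.H728.DL.Fi22
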