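import Cfsg.Agent.H728.DL.Rank2
import Cfsg.Agent.H678.DG.FiPts
import Cfsg.Agent.LThreeM.FiPar

/-!
# S4932: the data of `Kill 2 Fi23` and `Kill 3 Fi23` (helper728)

* `b0_three` : `782` and `30888` are degrees of characters in the principal `3`-block (points: `31671`);
* `b0_two` : `106743` and `30888` in the principal `2`-block (action on `137632` points).
-/

set_option autoImplicit false

open Cfsg

namespace Cfsg.Agent.H728.DL.Fi23

open Cfsg.Agent.H619.BD Cfsg.Agent.H619.R4 Cfsg.Agent.H187.FiTwoZ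

universe u

theorem card_fi23 : Nat.card Spor.Fi23 = 4089470473293004800 := Cfsg.Agent.NotCT.Orders.fi23 ⟨MulEquiv.refl _⟩

theorem finite_fi23 : Finite Spor.Fi23 := Nat.finite_of_card_ne_zero (by rw [card_fi23]; norm_num)

theorem b0_three_model : B0D 3 Spor.Fi23 782 ∧ B0D 3 Spor.Fi23 30888 := by
  have hfin := finite_fi23
  obtain ⟨R, h0, -, hD⟩ := Cfsg.Agent.R08.FiTwentyThree.exists_rank3
  have hcX := Cfsg.Agent.LThreeM.FiThree.card_X
  have hP := pair_of R ⊤ same_top (k := 3510) (l := 28160) (m := 351)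
    (Cfsg.Agent.LThreeM.FiThree.nb_card R h0 hD) (Cfsg.Agent.LThreeM.FiThree.cn_b R h0 hD)
    hcX (by norm_num) (by norm_num) (r := 351) (s := -9) (by norm_num) (by norm_num) (by norm_num) (f := 782)
    (g := 30888) (by norm_num) (by norm_num) (by norm_num)
  have hfX : Finite (Spor.Fi23 ⧸ Cfsg.Agent.Fischer.Fi23Class.K) := Nat.finite_of_card_ne_zero (by rw [hcX]; norm_num)
  obtain ⟨h1, h2⟩ := hP.b0d R.x0 (trans_of R ⊤ same_top) (p := 3) (e := 4) (by norm_num) (by norm_num) (by norm_num)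
    (by norm_num)
  exact ⟨h1.congr Subgroup.topEquiv, h2.congr Subgroup.topEquiv⟩

theorem pair_model : ∃ (X : Type) (_ : MulAction Spor.Fi23 X), (∃ _ : Nonempty X, Finite X) ∧
    MulAction.IsPretransitive Spor.Fi23 X ∧ Pair Spor.Fi23 X 106743 30888 := by
  have hfin := finite_fi23
  have hc := card_fi23
  obtain ⟨X, i, k, m, R, hR, h1, h2, h3⟩ := Cfsg.Agent.H678.DG.FiPts.exists_R3
  have hcX := hR.cardn
  have hfX : Finite X := Nat.finite_of_card_ne_zero (by rw [hcX]; omega)
  have hne : Nonempty X := by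
    by_contra hcon
    rw [not_nonempty_iff] at hcon
    rw [Nat.card_of_isEmpty] at hcX
    omega
  refine ⟨X, i, ⟨hne, hfX⟩, hR.trans, ?_⟩
  obtain ⟨x, hx, hd⟩ : ∃ x ∈ [(106743, 30888)], Pair Spor.Fi23 X x.1 x.2 := by
    rcases Cfsg.Agent.H678.DG.FiPts.subdeg h1 h2 h3 with ⟨rfl, rfl⟩ | ⟨rfl, rfl⟩
    · exact pair_of_R3 hR hc rfl (P := 427301280806400) (by norm_num) [(2, 4), (3, 4), (5, 1), (13, 1)]
        [2, 7, 11, 17, 23] (by simp only [List.forall_mem_cons]; norm_num)
        (by simp only [List.forall_mem_cons]; norm_num) (by decide) (by norm_num) (Or.inl (by decide)) [(106743, 30888)]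
        (by decide +kernel)
    · exact pair_of_R3 hR hc rfl (P := 427301280806400) (by norm_num) [(2, 4), (3, 4), (5, 1), (13, 1)]
        [2, 7, 11, 17, 23] (by simp only [List.forall_mem_cons]; norm_num)
        (by simp only [List.forall_mem_cons]; norm_num) (by decide) (by norm_num) (Or.inl (by decide)) [(106743, 30888)]
        (by decide +kernel)
  rw [List.mem_singleton] at hx
  subst hx
  exact hd

theorem b0_two_model : B0D 2 Spor.Fi23 106743 ∧ B0D 2 Spor.Fi23 30888 := by
  have hfin := finite_fi23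
  obtain ⟨X, i, ⟨⟨x₀⟩, hfX⟩, ht, hP⟩ := pair_model
  exact hP.b0d x₀ (fun x => ht.exists_smul_eq x₀ x) (p := 2) (e := 5) (by norm_num) (by norm_num) (by norm_num)
    (by norm_num)

/-- **`Fi23`, `p = 3`.** -/
theorem b0_three {S : Type u} [Group S] (h : Spor.IsoFi23 S) : B0D 3 S 782 ∧ B0D 3 S 30888 := by
  obtain ⟨e⟩ := h
  have hfin := finite_fi23
  exact ⟨b0_three_model.1.congr e.symm, b0_three_model.2.congr e.symm⟩

/-- **`Fi23`, `p = 2`.** -/
theorem b0_two {S : Type u} [Group S] (h : Spor.IsoFi23 S) : B0D 2 S 106743 ∧ B0D 2 S 30888 := by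
  obtain ⟨e⟩ := h
  have hfin := finite_fi23
  exact ⟨b0_two_model.1.congr e.symm, b0_two_model.2.congr e.symm⟩

theorem kd_two {S : Type u} [Group S] (h : Spor.IsoFi23 S) : KD 2 S :=
  KD.common 13 (b0_two h).1 (b0_two h).2 (by norm_num) (by norm_num) (by norm_num) (by norm_num) (by norm_num)
    (by norm_num) (by norm_num) (by norm_num) (by norm_num)

end Cfsg.Agent.H728.DL.Fi23
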