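import Cfsg.Agent.H728.DL.Rank2
import Cfsg.Agent.H711.FiEven

/-!
# S4932: the data of `Kill 2 Fi24'` and `Kill 3 Fi24'` (helper728)

`57477 = 3 * 49 * 17 * 23` and `249458 = 2 * 11 * 17 * 23 * 29` are degrees of characters in the principal `2`-block
and in the principal `3`-block (action on the `306936` transpositions).
-/

set_option autoImplicit false

open Cfsg

namespace Cfsg.Agent.H728.DL.Fi24

open Cfsg.Agent.H619.BD Cfsg.Agent.H619.R4 Cfsg.Agent.H187.FiTwoZ
open Cfsg.Spor Cfsg.Agent.LThreeM.SrgFix Cfsg.Agent.Fischer.Abstract Cfsg.Agent.R08.FiTwentyFour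

universe u

theorem card_fi24 : Nat.card ↥(commutator Fi24) = 1255205709190661721292800 := card_commutator

theorem finite_fi24' : Finite ↥(commutator Fi24) := Nat.finite_of_card_ne_zero (by rw [card_fi24]; norm_num)

/-- any two points have a common neighbour -/
theorem common {X : Type*} [MulAction Fi24 X] (R : Rank3 Fi24 X) (hR : Set.range R.t = L) (x y : X) :
    ∃ z, R.Com z x ∧ R.Com z y := by
  have hfX : Finite X := Nat.finite_of_card_ne_zero (by rw [Cfsg.Agent.H711.FiEven.card_X R hR]; norm_num)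
  by_cases hc : R.Com x y
  · exact ⟨x, R.com_self x, hc⟩
  · have h1 := ncard_cn_ncom R hc
    rw [Cfsg.Agent.H711.FiEven.cb_card R hR] at h1
    obtain ⟨z, hz⟩ := Set.nonempty_of_ncard_ne_zero (s := cn R x y) (by rw [h1]; norm_num)
    exact ⟨z, R.com_symm hz.1.2, R.com_symm hz.2.2⟩

theorem b0_model {p e : ℕ} (he : p ^ e ∣ 306936) (h1 : 1 % p ^ e ≠ 0) (h2 : 57478 % p ^ e ≠ 0)
    (h3 : 249459 % p ^ e ≠ 0) : B0D p ↥(commutator Fi24) 57477 ∧ B0D p ↥(commutator Fi24) 249458 := by
  have hfin : Finite Fi24 := finite_Fi24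
  have hfinT := finite_fi24'
  obtain ⟨R, -, -, hR⟩ := facts.exists_rank3
  have hcX := Cfsg.Agent.H711.FiEven.card_X R hR
  have hfX : Finite (Fi24 ⧸ Cfsg.Agent.Fischer.Fi24RepOrb.H) := Nat.finite_of_card_ne_zero (by rw [hcX]; norm_num)
  have hsame : Same (commutator Fi24) (Fi24 ⧸ Cfsg.Agent.Fischer.Fi24RepOrb.H) :=
    same_of R _ index_commutator (fun x => odd (by rw [← hR]; exact ⟨x, rfl⟩)) (common R hR)
  have hP := pair_of R (commutator Fi24) hsame (k := 31671) (l := 275264) (m := 3240)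
    (Cfsg.Agent.H711.FiEven.nb_card R hR) (Cfsg.Agent.H711.FiEven.cb_card R hR) hcX
    (by norm_num) (by norm_num) (r := 351) (s := -81) (by norm_num) (by norm_num) (by norm_num)
    (f := 57477) (g := 249458) (by norm_num) (by norm_num) (by norm_num)
  exact hP.b0d R.x0 (trans_of R _ hsame) (p := p) (e := e) he h1 h2 h3

/-- **`Fi24'`, `p = 2`.** -/
theorem b0_two {S : Type u} [Group S] (h : Spor.IsoFi24' S) : B0D 2 S 57477 ∧ B0D 2 S 249458 := by
  obtain ⟨e⟩ := h
  have hfin := finite_fi24'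
  have e' : S ≃* ↥(commutator Fi24) := e
  have hm := b0_model (p := 2) (e := 3) (by norm_num) (by norm_num) (by norm_num) (by norm_num)
  exact ⟨hm.1.congr e'.symm, hm.2.congr e'.symm⟩

/-- **`Fi24'`, `p = 3`.** -/
theorem b0_three {S : Type u} [Group S] (h : Spor.IsoFi24' S) : B0D 3 S 57477 ∧ B0D 3 S 249458 := by
  obtain ⟨e⟩ := h
  have hfin := finite_fi24'
  have e' : S ≃* ↥(commutator Fi24) := e
  have hm := b0_model (p := 3) (e := 3) (by norm_num) (by norm_num) (by norm_num) (by norm_num)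
  exact ⟨hm.1.congr e'.symm, hm.2.congr e'.symm⟩

theorem kd_two {S : Type u} [Group S] (h : Spor.IsoFi24' S) : KD 2 S :=
  KD.common 17 (b0_two h).1 (b0_two h).2 (by norm_num) (by norm_num) (by norm_num) (by norm_num) (by norm_num)
    (by norm_num) (by norm_num) (by norm_num) (by norm_num)

theorem kd_three {S : Type u} [Group S] (h : Spor.IsoFi24' S) : KD 3 S :=
  KD.common 17 (b0_three h).1 (b0_three h).2 (by norm_num) (by norm_num) (by norm_num) (by norm_num) (by norm_num)
    (by norm_num) (by norm_num) (by norm_num) (by norm_num)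

end Cfsg.Agent.H728.DL.Fi24
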