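import Cfsg.Agent.H619.BD.KData
import Cfsg.Agent.H187.FiTwoZ.Base

/-!
# Constituents of rank 3 permutation characters in the principal block, known eigenvalues (S4932, helper728)

* `Pair G X f g` : the permutation character on `X` is `1 + χ₁ + χ₂`, `χ₁, χ₂` real of degrees `f ≠ g`;
* `pair_exact` : from `R3` and the two eigenvalues; `pair_of` : from a class of 3-transpositions;
* `Pair.b0d` : both constituents are in the principal `p`-block, `Pair.rc` : they are real.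
-/

set_option autoImplicit false

open Cfsg

namespace Cfsg.Agent.H728.DL

open Cfsg.Agent.Characters Cfsg.Agent.Characters.Core Cfsg.Agent.Blocks Cfsg.Agent.Blocks.LocalRing
open Cfsg.Agent.H619.R4 Cfsg.Agent.H619.BD Cfsg.Agent.H690.Spor.RankThree
open scoped ComplexConjugate

universe u v

/-- the permutation character on `X` is `1 + χ₁ + χ₂`, `χ₁, χ₂` real of degrees `f`, `g` -/
def Pair (G : Type u) [Group G] (X : Type v) [MulAction G X] (f g : ℕ) : Prop :=
  ∃ χ₁ χ₂ : IrrCharacter G, (χ₁ : G → ℂ) 1 = f ∧ (χ₂ : G → ℂ) 1 = g ∧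
    (∀ x, conj ((χ₁ : G → ℂ) x) = (χ₁ : G → ℂ) x) ∧ (∀ x, conj ((χ₂ : G → ℂ) x) = (χ₂ : G → ℂ) x) ∧
    ∀ x : G, (Nat.card (MulAction.fixedBy X x) : ℂ) = 1 + (χ₁ : G → ℂ) x + (χ₂ : G → ℂ) x

variable {G : Type u} [Group G] {X : Type v} [MulAction G X]

theorem pair_exact [Finite G] {R : X → X → Prop} {k l : ℕ} (h : R3 G X R k l) {x₀ y₀ : X} (hxy : x₀ ≠ y₀)
    (hR : ¬ R x₀ y₀) {b : ℕ} (hb : R3.com R x₀ y₀ = b) {r s : ℤ} (hrs : r ≠ s) (h2 : r * s = b - k)
    (h1 : (k : ℤ) * (r + s + b) = k * k - k - l * b) {f g : ℕ}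
    (hf : (f : ℤ) * (r - s) = -(s * (k + l) + k)) (hg : (g : ℤ) * (r - s) = r * (k + l) + k) (hfg : f ≠ g) :
    Pair G X f g := by
  classical
  have hfX : Finite X := Nat.finite_of_card_ne_zero (by rw [h.cardn]; omega)
  have := Fintype.ofFinite X
  obtain ⟨χ₁, χ₂, f', g', e1, e2, e3, e4, hπ, -⟩ := Cfsg.Agent.H113.PSU.Rank3.frame_exact h hxy hR hb hrs h2 h1
  have hd : r - s ≠ 0 := sub_ne_zero.2 hrs
  have ef : f' = f := by
    have := mul_right_cancel₀ hd (e3.trans hf.symm)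
    exact_mod_cast this
  have eg : g' = g := by
    have := mul_right_cancel₀ hd (e4.trans hg.symm)
    exact_mod_cast this
  subst ef eg
  have hsum : ∀ x, conj ((χ₁ : G → ℂ) x + (χ₂ : G → ℂ) x) = (χ₁ : G → ℂ) x + (χ₂ : G → ℂ) x := by
    intro x
    have h1 : (χ₁ : G → ℂ) x + (χ₂ : G → ℂ) x = (Nat.card (MulAction.fixedBy X x) : ℂ) - 1 := by
      rw [hπ x]
      ring
    rw [h1, map_sub, map_one, Complex.conj_natCast]
  have hne1 : (χ₁ : G → ℂ) 1 ≠ (χ₂ : G → ℂ) 1 := by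
    rw [e1, e2]
    exact_mod_cast hfg
  exact ⟨χ₁, χ₂, e1, e2, real_of_sum hne1 hsum,
    real_of_sum hne1.symm (fun x => by rw [add_comm]; exact hsum x), hπ⟩

theorem Pair.rc {f g : ℕ} (h : Pair G X f g) : RC G f ∧ RC G g := by
  obtain ⟨χ₁, χ₂, e1, e2, r1, r2, -⟩ := h
  exact ⟨⟨χ₁, fun x => Complex.conj_eq_iff_im.1 (r1 x), Blocks.Basic.charDegree_of_eq e1⟩,
    ⟨χ₂, fun x => Complex.conj_eq_iff_im.1 (r2 x), Blocks.Basic.charDegree_of_eq e2⟩⟩

/-- **Both constituents are in the principal block.** -/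
theorem Pair.b0d [Finite G] [Finite X] {a b : ℕ} (h : Pair G X a b) (x₀ : X) (htr : ∀ x : X, ∃ g : G, g • x₀ = x)
    {p e : ℕ} (he : p ^ e ∣ 1 + a + b) (h1 : 1 % p ^ e ≠ 0) (h2 : (1 + a) % p ^ e ≠ 0) (h3 : (1 + b) % p ^ e ≠ 0) :
    B0D p G a ∧ B0D p G b := by
  classical
  obtain ⟨χ₁, χ₂, e1, e2, r1, r2, hπ⟩ := h
  let χ : Fin 3 → IrrCharacter G := ![⟨fun _ => 1, isIrr_one⟩, χ₁, χ₂]
  let dg : Fin 3 → ℕ := ![1, a, b]
  have key : ∀ M : Ideal AlgInt, IsPModular p M → ∀ i, χ i ∈ principalBlock M G := fun M hM =>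
    all_mem_principal (e := e) hM x₀ htr χ rfl (fun g => by
      rw [hπ g, Fin.sum_univ_three]
      rfl) (d := dg) (fun i => by
        fin_cases i
        · simp [χ, dg]
        · exact e1
        · exact e2) (by
        rw [Fin.sum_univ_three]
        exact he) (by
        intro T h0 hT
        have h4 : ∑ i ∈ T, dg i = 1 + (if (1 : Fin 3) ∈ T then a else 0) + if (2 : Fin 3) ∈ T then b else 0 := by
          have h5 : ∑ i ∈ T, dg i = ∑ i : Fin 3, if i ∈ T then dg i else 0 := by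
            rw [Finset.sum_ite_mem, Finset.univ_inter]
          rw [h5, Fin.sum_univ_three, if_pos h0]
          rfl
        rw [h4] at hT
        by_cases h5 : (1 : Fin 3) ∈ T <;> by_cases h6 : (2 : Fin 3) ∈ T
        · rw [Finset.eq_univ_iff_forall]
          intro i
          fin_cases i
          · exact h0
          · exact h5
          · exact h6
        · rw [if_pos h5, if_neg h6, add_zero] at hT
          exact absurd hT h2
        · rw [if_neg h5, if_pos h6, add_zero] at hT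
          exact absurd hT h3
        · rw [if_neg h5, if_neg h6] at hT
          exact absurd hT h1)
  exact ⟨⟨χ₁, fun M hM => key M hM 1, Blocks.Basic.charDegree_of_eq e1⟩,
    ⟨χ₂, fun M hM => key M hM 2, Blocks.Basic.charDegree_of_eq e2⟩⟩

open Cfsg.Agent.Fischer.Abstract Cfsg.Agent.LThreeM.SrgFix Cfsg.Agent.H187.FiTwoZ

/-- the rank 3 action on a class of 3-transpositions, for a subgroup with the same orbits on pairs -/
theorem pair_of [Finite G] (R : Rank3 G X) (N : Subgroup G) (hN : Same N X) {k l m : ℕ}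
    (hk : (nb R R.x0).ncard = k) (hm : (cn R R.x0 R.b).ncard = m)
    (hn : Nat.card X = 1 + k + l) (hk0 : 0 < k) (hl0 : 0 < l) {r s : ℤ} (hrs : r ≠ s) (h2 : r * s = m - k)
    (h1 : (k : ℤ) * (r + s + m) = k * k - k - l * m) {f g : ℕ}
    (hf : (f : ℤ) * (r - s) = -(s * (k + l) + k)) (hg : (g : ℤ) * (r - s) = r * (k + l) + k) (hfg : f ≠ g) :
    Pair N X f g := by
  have hb : R3.com (Adj R) R.x0 R.b = m := by
    rw [← hm]
    refine Nat.card_congr (Equiv.subtypeEquivRight fun z => ?_)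
    exact ⟨fun h => ⟨h.1, adj_symm R h.2⟩, fun h => ⟨h.1, adj_symm R h.2⟩⟩
  exact pair_exact (r3 R N hN hk hn hk0 hl0) R.b_ne_x0.symm (fun h => R.not_com_x0_b h.2) hb hrs h2 h1 hf hg hfg

/-- the subgroup `N` is transitive -/
theorem trans_of (R : Rank3 G X) (N : Subgroup G) (hN : Same N X) (x : X) : ∃ g : N, g • R.x0 = x := by
  obtain ⟨g, hg⟩ := R.trans x
  obtain ⟨h, hh, h1, -⟩ := hN g R.x0 R.x0
  exact ⟨⟨h, hh⟩, by rw [Subgroup.mk_smul, h1, hg]⟩

end Cfsg.Agent.H728.DL
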