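import Cfsg.Agent.H728.DL.Rank
import Cfsg.Agent.H672.SporIM.Tools

/-!
# `Pair` from a rank 3 action with the divisor search of `H672.SporIM` (S4932, helper728)
-/

set_option autoImplicit false

open Cfsg

namespace Cfsg.Agent.H728.DL

open Cfsg.Agent.Characters Cfsg.Agent.Characters.Core Cfsg.Agent.Blocks
open Cfsg.Agent.H619.R4 Cfsg.Agent.H619.BD Cfsg.Agent.H690.Spor.RankThree Cfsg.Agent.H672.SporIM
open scoped ComplexConjugate

universe u v

variable {G : Type u} [Group G] {X : Type v} [MulAction G X]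

theorem Pair.symm {f g : ℕ} (h : Pair G X f g) : Pair G X g f := by
  obtain ⟨χ₁, χ₂, e1, e2, r1, r2, h⟩ := h
  exact ⟨χ₂, χ₁, e2, e1, r2, r1, fun x => by rw [h x]; ring⟩

theorem pair_of_R3 [Finite G] {R : X → X → Prop} {k l : ℕ}
    (h : R3 G X R k l) {n s P : ℕ} (hn : Nat.card G = n) (hs : k + l = s) (hP : (1 + k + l) * k * l = P)
    (L : List (ℕ × ℕ)) (Q : List ℕ) (hL : ∀ x ∈ L, x.1.Prime) (hQ : ∀ x ∈ Q, x.Prime) (hQn : Q.Nodup)
    (hPM : P = (L.map fun x => x.1 ^ x.2).prod * (L.map fun x => x.1 ^ x.2).prod * Q.prod)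
    (hodd : Odd s ∨ ¬ s / 2 ∣ n) (sols : List (ℕ × ℕ))
    (hchk : (divList L).all (chkD s P n sols) = true) :
    ∃ x ∈ sols, Pair G X x.1 x.2 := by
  classical
  have hq := squarefree_prod hQ hQn
  have hfX : Finite X := Nat.finite_of_card_ne_zero (by rw [h.cardn]; omega)
  have := Fintype.ofFinite X
  obtain ⟨χ₁, χ₂, f, g, D, h1, h2, hπ, h3, h4, h5⟩ := h.frame
  have hd1 : charDegree (χ₁ : G → ℂ) = f := Blocks.Basic.charDegree_of_eq h1
  have hd2 : charDegree (χ₂ : G → ℂ) = g := Blocks.Basic.charDegree_of_eq h2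
  have hf : f ∣ n := by rw [← hd1, ← hn]; exact Cfsg.Agent.Blocks.Knorr.charDegree_dvd χ₁.2
  have hg : g ∣ n := by rw [← hd2, ← hn]; exact Cfsg.Agent.Blocks.Knorr.charDegree_dvd χ₂.2
  have hne : f ≠ g := by
    rintro rfl
    rcases hodd with h6 | h6
    · rw [← hs, ← h3] at h6
      exact (Nat.not_even_iff_odd.2 h6) ⟨f, rfl⟩
    · apply h6
      rw [← hs, ← h3, show (f + f) / 2 = f by omega]
      exact hf
  obtain ⟨d, rfl⟩ := h5 hne
  have hM : 0 < (L.map fun x => x.1 ^ x.2).prod := by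
    apply Nat.pos_of_ne_zero
    intro h0
    rw [h0, zero_mul, zero_mul] at hPM
    rw [hPM] at hP
    have := Nat.mul_pos (Nat.mul_pos (show 0 < 1 + k + l by omega) h.k0) h.l0
    omega
  have hP0 : 0 < P := by
    rw [← hP]
    exact Nat.mul_pos (Nat.mul_pos (by omega) h.k0) h.l0
  have hd : 0 < d := by
    apply Nat.pos_of_ne_zero
    rintro rfl
    rw [mul_zero, mul_zero, hP] at h4
    omega
  have h6 : f * g * (d * d) = P := by rw [h4, hP]
  have h7 : d ∣ (L.map fun x => x.1 ^ x.2).prod := by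
    apply dvd_of_sq_dvd hq hM
    rw [← hPM, ← h6]
    exact Dvd.intro_left _ rfl
  have h8 := List.all_eq_true.1 hchk d (mem_divList hL h7)
  have hsum : ∀ x, conj ((χ₁ : G → ℂ) x + (χ₂ : G → ℂ) x) = (χ₁ : G → ℂ) x + (χ₂ : G → ℂ) x := by
    intro x
    have h1 : (χ₁ : G → ℂ) x + (χ₂ : G → ℂ) x = (Nat.card (MulAction.fixedBy X x) : ℂ) - 1 := by
      rw [hπ x]
      ring
    rw [h1, map_sub, map_one, Complex.conj_natCast]
  have hne1 : (χ₁ : G → ℂ) 1 ≠ (χ₂ : G → ℂ) 1 := by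
    rw [h1, h2]
    exact_mod_cast hne
  have hpair : Pair G X f g := ⟨χ₁, χ₂, h1, h2, real_of_sum hne1 hsum,
    real_of_sum hne1.symm (fun x => by rw [add_comm]; exact hsum x), hπ⟩
  rcases lt_or_gt_of_ne hne with hlt | hlt
  · exact ⟨(g, f), chkD_spec h8 hlt (by omega) (by rw [mul_comm g f]; exact h6) hd hg hf, hpair.symm⟩
  · exact ⟨(f, g), chkD_spec h8 hlt (by omega) h6 hd hf hg, hpair⟩

end Cfsg.Agent.H728.DL
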